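import Cfsg.Agent.H596.OneASB
import Cfsg.Agent.H596.OneM11
import Cfsg.Agent.H596.OneV

/-!
# S4761: Sylow `p`-normalizers are maximal in the groups of S4764
-/

set_option autoImplicit false

open Equiv

namespace Cfsg.Agent.H61.S4761

open Cfsg Cfsg.Agent Cfsg.Agent.H596 Cfsg.Agent.H596.OneL2

universe u

theorem card_sylow_s5 : Nat.card (Sylow 3 (Equiv.Perm (Fin 5))) = 10 := by
  classical
  have : Fact (Nat.Prime 3) := ⟨Nat.prime_three⟩
  let x : Perm (Fin 5) := c[0, 1, 2]
  have hx3 : orderOf x = 3 := by
    apply orderOf_eq_prime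
    · decide +kernel
    · decide +kernel
  have hG : Nat.card (Perm (Fin 5)) = 120 := by
    rw [Nat.card_perm, Nat.card_eq_fintype_card, Fintype.card_fin]; decide
  have hf : (120 : ℕ).factorization 3 = 1 := by
    rw [show (120 : ℕ) = 3 * 40 by norm_num, Nat.factorization_mul (by norm_num) (by norm_num)]
    simp [Nat.Prime.factorization Nat.prime_three, Nat.factorization_eq_zero_of_not_dvd (show ¬ 3 ∣ 40 by norm_num)]
  let P : Sylow 3 (Perm (Fin 5)) := Sylow.ofCard (Subgroup.zpowers x) (by rw [hG, hf, Nat.card_zpowers, hx3, pow_one])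
  have hP : (P : Subgroup (Perm (Fin 5))) = Subgroup.zpowers x := rfl
  have hmem : ∀ y : Perm (Fin 5), y ∈ Subgroup.zpowers x ↔ y = 1 ∨ y = x ∨ y = x⁻¹ := by
    intro y
    rw [mem_zpowers_iff_mem_range_orderOf, hx3]
    simp only [Finset.mem_image, Finset.mem_range]
    constructor
    · rintro ⟨n, hn, rfl⟩
      interval_cases n
      · left; rfl
      · right; left; exact pow_one x
      · right; right
        decide +kernel
    · rintro (rfl | rfl | rfl)
      · exact ⟨0, by norm_num, rfl⟩
      · exact ⟨1, by norm_num, pow_one x⟩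
      · exact ⟨2, by norm_num, by decide +kernel⟩
  have hN : ∀ g : Perm (Fin 5), g ∈ Subgroup.normalizer ((P : Subgroup (Perm (Fin 5))) : Set (Perm (Fin 5))) ↔
      g * x * g⁻¹ = x ∨ g * x * g⁻¹ = x⁻¹ := by
    intro g
    rw [Subgroup.mem_normalizer_iff]
    constructor
    · intro h
      have h1 := (h x).1 (Subgroup.mem_zpowers x)
      rw [hP] at h1
      rcases (hmem _).1 h1 with h2 | h2
      · exfalso
        have h3 : x = 1 := by
          have : g⁻¹ * (g * x * g⁻¹) * g = g⁻¹ * 1 * g := by rw [h2]
          simpa [mul_assoc] using this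
        rw [h3, orderOf_one] at hx3
        omega
      · exact h2
    · intro h y
      change y ∈ Subgroup.zpowers x ↔ g * y * g⁻¹ ∈ Subgroup.zpowers x
      have h0 : g * x⁻¹ * g⁻¹ = (g * x * g⁻¹)⁻¹ := by group
      rw [hmem, hmem]
      have hinj : ∀ a b : Perm (Fin 5), g * a * g⁻¹ = g * b * g⁻¹ ↔ a = b := by
        intro a b
        constructor
        · intro h
          exact mul_left_cancel (mul_right_cancel h)
        · rintro rfl; rfl
      rcases h with h | h
      · rw [h] at h0
        constructor
        · rintro (rfl | rfl | rfl)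
          · left; group
          · right; left; exact h
          · right; right; exact h0
        · rintro (h1 | h1 | h1)
          · left; exact (hinj _ _).1 (by rw [h1]; group)
          · right; left; exact (hinj _ _).1 (by rw [h1, h])
          · right; right; exact (hinj _ _).1 (by rw [h1, h0])
      · rw [h, inv_inv] at h0
        constructor
        · rintro (rfl | rfl | rfl)
          · left; group
          · right; right; exact h
          · right; left; exact h0
        · rintro (h1 | h1 | h1)
          · left; exact (hinj _ _).1 (by rw [h1]; group)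
          · right; right; exact (hinj _ _).1 (by rw [h1, h0])
          · right; left; exact (hinj _ _).1 (by rw [h1, h])
  have hcard : Nat.card (Subgroup.normalizer ((P : Subgroup (Perm (Fin 5))) : Set (Perm (Fin 5)))) = 12 := by
    have h1 : (Finset.univ.filter fun g : Perm (Fin 5) => g * x * g⁻¹ = x ∨ g * x * g⁻¹ = x⁻¹).card = 12 := by
      decide +kernel
    rw [← h1]
    refine Nat.subtype_card _ (fun g => ?_)
    rw [Finset.mem_filter]
    exact ⟨fun h => (hN g).2 h.2, fun h => ⟨Finset.mem_univ _, (hN g).1 h⟩⟩
  rw [P.card_eq_index_normalizer]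
  have h1 := Subgroup.card_mul_index (Subgroup.normalizer ((P : Subgroup (Perm (Fin 5))) : Set (Perm (Fin 5))))
  rw [hcard, hG] at h1
  have h2 : (Subgroup.normalizer ((P : Subgroup (Perm (Fin 5))) : Set (Perm (Fin 5)))).index = 10 := by omega
  exact h2

section

variable {G : Type u} [Group G] [Finite G] {p : ℕ} [hp : Fact p.Prime]

/-- If any two Sylow `p`-subgroups generate, their normalizers are maximal. -/
theorem coatom_of_ll {q : ℕ} (hq : 0 < q) (h : LL p q G) (P : Sylow p G) :
    IsCoatom (Subgroup.normalizer ((P : Subgroup G) : Set G)) := by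
  constructor
  · intro htop
    have h1 : Nat.card (Sylow p G) = 1 := by
      rw [P.card_eq_index_normalizer]
      have h2 : (Subgroup.normalizer ((P : Subgroup G) : Set G)).index = 1 := by rw [htop, Subgroup.index_top]
      exact h2
    rw [h.card] at h1
    omega
  · intro X hX
    obtain ⟨x, hxX, hxN⟩ := SetLike.exists_of_lt hX
    have hPX : (P : Subgroup G) ≤ X := Subgroup.le_normalizer.trans hX.le
    have hne : P ≠ x • P := by
      intro h1
      exact hxN (Sylow.smul_eq_iff_mem_normalizer.1 h1.symm)
    have h1 := h.gen P (x • P) hne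
    rw [eq_top_iff, ← h1]
    refine sup_le hPX ?_
    rintro y hy
    rw [Sylow.coe_subgroup_smul] at hy
    obtain ⟨z, hz, rfl⟩ := hy
    show x * z * x⁻¹ ∈ X
    exact mul_mem (mul_mem hxX (hPX hz)) (inv_mem hxX)

/-- The arithmetic criterion: the number of Sylow `p`-subgroups has only the trivial divisors congruent to one. -/
theorem coatom_of_card {n : ℕ} (hn : n ≠ 1) (hc : Nat.card (Sylow p G) = n)
    (h : ∀ d : ℕ, d ∣ n → d ≡ 1 [MOD p] → d = 1 ∨ d = n) (P : Sylow p G) :
    IsCoatom (Subgroup.normalizer ((P : Subgroup G) : Set G)) := by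
  have hidx : (Subgroup.normalizer ((P : Subgroup G) : Set G)).index = n := by
    rw [← hc, P.card_eq_index_normalizer]
    rfl
  constructor
  · intro htop
    rw [htop, Subgroup.index_top] at hidx
    exact hn hidx.symm
  · intro X hX
    have hPX : (P : Subgroup G) ≤ X := Subgroup.le_normalizer.trans hX.le
    let Q : Sylow p X := P.subtype hPX
    have hQ : (Subgroup.normalizer ((Q : Subgroup X) : Set X)) =
        (Subgroup.normalizer ((P : Subgroup G) : Set G)).subgroupOf X := by
      have h1 : (Q : Subgroup X) = (P : Subgroup G).subgroupOf X := rfl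
      rw [h1]
      exact (Subgroup.subgroupOf_normalizer_eq hPX).symm
    have h2 : (Subgroup.normalizer ((P : Subgroup G) : Set G)).relIndex X = Nat.card (Sylow p X) := by
      rw [Q.card_eq_index_normalizer]
      have h3 : (Subgroup.normalizer ((Q : Subgroup X) : Set X)).index =
        (Subgroup.normalizer ((P : Subgroup G) : Set G)).relIndex X := by rw [hQ]; rfl
      exact h3.symm
    have h3 : (Subgroup.normalizer ((P : Subgroup G) : Set G)).relIndex X * X.index = n := by
      rw [← hidx]
      exact Subgroup.relIndex_mul_index hX.le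
    have h4 : (Subgroup.normalizer ((P : Subgroup G) : Set G)).relIndex X ≡ 1 [MOD p] := by
      rw [h2]
      exact card_sylow_modEq_one p X
    rcases h _ (Dvd.intro _ h3) h4 with h5 | h5
    · exact absurd (Subgroup.relIndex_eq_one.1 h5) (not_le_of_gt hX)
    · rw [h5] at h3
      have hn0 : 0 < n := by
        rw [← hc]
        exact Nat.card_pos
      have h6 : X.index = 1 := Nat.eq_of_mul_eq_mul_left hn0 (by rw [h3, mul_one])
      exact Subgroup.index_eq_one.1 h6

end

/-- **Sylow normalizers are maximal in the groups of S4764.** -/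
theorem coatom_of_concl {G : Type u} [Group G] [Finite G] {p : ℕ} [hp : Fact p.Prime] (h : H596.OneAS.Concl p G)
    (P : Sylow p G) : IsCoatom (Subgroup.normalizer ((P : Subgroup G) : Set G)) := by
  rcases h with ⟨F, _, _, hF, h4, ⟨⟨e⟩⟩ | ⟨⟨e⟩⟩ | ⟨V, hVn, hVe, hVc, ⟨e⟩⟩⟩ | ⟨rfl, ⟨e⟩⟩ | ⟨rfl, hM⟩
  · exact coatom_of_ll (by omega) ((ll_PSL (F := F) (p := p)).of_equiv e.symm) P
  · exact coatom_of_ll (by omega) ((ll_SL (F := F) (p := p)).of_equiv e.symm) P
  · have hVp : IsPGroup p V := by
      intro v
      exact ⟨1, by rw [pow_one]; exact Subtype.ext (hVe.2 v v.2)⟩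
    exact coatom_of_ll (by omega)
      (OneV.ll_of_pker V hVp ((ll_SL (F := F) (p := p)).of_equiv e.symm)) P
  · have hc : Nat.card (Sylow 3 G) = 10 := by
      rw [← card_sylow_s5]
      apply Nat.dvd_antisymm
      · exact H482.SylowNumbers.card_sylow_dvd_of_surjective 3 e.symm.toMonoidHom e.symm.surjective
      · exact H482.SylowNumbers.card_sylow_dvd_of_surjective 3 e.toMonoidHom e.surjective
    refine coatom_of_card (by norm_num) hc ?_ P
    intro d hd h1
    have h2 : d ∈ Nat.divisors 10 := Nat.mem_divisors.2 ⟨hd, by norm_num⟩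
    have h3 : Nat.divisors 10 = {1, 2, 5, 10} := by decide +kernel
    rw [h3] at h2
    simp only [Finset.mem_insert, Finset.mem_singleton] at h2
    rcases h2 with rfl | rfl | rfl | rfl
    · left; rfl
    · exact absurd h1 (by decide)
    · exact absurd h1 (by decide)
    · right; rfl
  · refine coatom_of_card (by norm_num) (OneM11.card_sylow hM) ?_ P
    intro d hd h1
    have h2 : d ∈ Nat.divisors 55 := Nat.mem_divisors.2 ⟨hd, by norm_num⟩
    have h3 : Nat.divisors 55 = {1, 5, 11, 55} := by decide +kernel
    rw [h3] at h2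
    simp only [Finset.mem_insert, Finset.mem_singleton] at h2
    rcases h2 with rfl | rfl | rfl | rfl
    · left; rfl
    · exact absurd h1 (by decide)
    · exact absurd h1 (by decide)
    · right; rfl

end Cfsg.Agent.H61.S4761
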